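import Mathlib.RingTheory.AdicCompletion.RingHom
import Mathlib.AlgebraicGeometry.Stalk
import Mathlib.AlgebraicGeometry.Limits
import Groth.Agent.S8384

/-!
Morphisms out of the spectrum of an adically complete local ring, or of a finite product of such rings, are limits
of morphisms out of the quotients.
-/

open CategoryTheory CategoryTheory.Limits AlgebraicGeometry

universe u

set_option autoImplicit false
set_option linter.style.haveILetI false

noncomputable section

namespace Groth.Agent.H21Adic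

variable {A : Type u} [CommRing A] [IsLocalRing A] (I : Ideal A) [IsAdicComplete I A]

/-- The inclusion of a thickening. -/
abbrev mkS (n : ℕ) : Spec (CommRingCat.of (A ⧸ I ^ n)) ⟶ Spec (CommRingCat.of A) :=
  Spec.map (CommRingCat.ofHom (Ideal.Quotient.mk (I ^ n)))

/-- A point of a thickening over the closed point. -/
theorem exists_closed (hI : I ≠ ⊤) {n : ℕ} (hn : 0 < n) :
    ∃ p : Spec (CommRingCat.of (A ⧸ I ^ n)), mkS I n p = IsLocalRing.closedPoint A := by
  have hle : I ^ n ≤ IsLocalRing.maximalIdeal A :=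
    (Ideal.pow_le_self (Nat.pos_iff_ne_zero.mp hn)).trans (IsLocalRing.le_maximalIdeal hI)
  haveI : ((IsLocalRing.maximalIdeal A).map (Ideal.Quotient.mk (I ^ n))).IsPrime :=
    Ideal.map_isPrime_of_surjective Ideal.Quotient.mk_surjective (by rwa [Ideal.mk_ker])
  refine ⟨(⟨(IsLocalRing.maximalIdeal A).map (Ideal.Quotient.mk (I ^ n)), inferInstance⟩ : PrimeSpectrum _),
    PrimeSpectrum.ext ?_⟩
  change ((IsLocalRing.maximalIdeal A).map (Ideal.Quotient.mk (I ^ n))).comap (Ideal.Quotient.mk (I ^ n)) = _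
  rw [Ideal.comap_map_of_surjective' _ Ideal.Quotient.mk_surjective, Ideal.mk_ker, sup_eq_left.mpr hle]
  rfl

theorem hom_ext (hI : I ≠ ⊤) {X : Scheme.{u}} {f g : Spec (CommRingCat.of A) ⟶ X}
    (h : ∀ n : ℕ, mkS I n ≫ f = mkS I n ≫ g) : f = g := by
  obtain ⟨p, hp⟩ := exists_closed I hI one_pos
  have hx : g (IsLocalRing.closedPoint A) = f (IsLocalRing.closedPoint A) := by
    have := congrArg (fun k : Spec (CommRingCat.of (A ⧸ I ^ 1)) ⟶ X => k p) (h 1)
    change f (mkS I 1 p) = g (mkS I 1 p) at this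
    rw [hp] at this
    exact this.symm
  obtain ⟨U, hU, hxU, -⟩ := exists_isAffineOpen_mem_and_subset
    (U := (⊤ : X.Opens)) (x := f (IsLocalRing.closedPoint A)) trivial
  obtain ⟨φ, rfl⟩ := S8384.exists_specMap hU f (S8384.mem_of_closedPoint_mem f hxU)
  obtain ⟨ψ, rfl⟩ := S8384.exists_specMap hU g (S8384.mem_of_closedPoint_mem g (hx ▸ hxU))
  congr 2
  refine CommRingCat.hom_ext (RingHom.ext fun r => congrFun ?_ r)
  refine IsHausdorff.funext' I fun n r => ?_
  have e := h n
  rw [← Category.assoc, ← Category.assoc, cancel_mono, ← Spec.map_comp, ← Spec.map_comp] at e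
  exact congrArg (fun k : Γ(X, U) ⟶ CommRingCat.of (A ⧸ I ^ n) => k.hom r) (Spec.map_injective e)

theorem exists_hom (hI : I ≠ ⊤) {X : Scheme.{u}} (u : (n : ℕ) → (Spec (CommRingCat.of (A ⧸ I ^ n)) ⟶ X))
    (hu : ∀ n : ℕ, Spec.map (CommRingCat.ofHom (Ideal.Quotient.factor
      (Ideal.pow_le_pow_right (I := I) (Nat.le_succ n)))) ≫ u (n + 1) = u n) :
    ∃ f : Spec (CommRingCat.of A) ⟶ X, ∀ n : ℕ, mkS I n ≫ f = u n := by
  have hle : ∀ {m n : ℕ} (h : m ≤ n), Spec.map (CommRingCat.ofHom
      (Ideal.Quotient.factor (Ideal.pow_le_pow_right (I := I) h))) ≫ u n = u m := by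
    intro m n h
    induction n, h using Nat.le_induction with
    | base =>
      have : CommRingCat.ofHom (Ideal.Quotient.factor (Ideal.pow_le_pow_right (I := I) (le_refl m))) =
          𝟙 _ := CommRingCat.hom_ext (Ideal.Quotient.ringHom_ext (RingHom.ext fun _ => rfl))
      rw [this, Spec.map_id, Category.id_comp]
    | succ n h ih =>
      conv_rhs => rw [← ih, ← hu n, ← Spec.map_comp_assoc]
      congr 2
      exact CommRingCat.hom_ext (Ideal.Quotient.ringHom_ext (RingHom.ext fun _ => rfl))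
  obtain ⟨p, hp⟩ := exists_closed I hI one_pos
  obtain ⟨U, hU, hxU, -⟩ := exists_isAffineOpen_mem_and_subset (U := (⊤ : X.Opens)) (x := u 1 p) trivial
  have hmem : ∀ n (q : Spec (CommRingCat.of (A ⧸ I ^ n))), u n q ∈ U := by
    intro n q
    rcases Nat.eq_zero_or_pos n with rfl | hn
    · have : Subsingleton (A ⧸ I ^ 0) := Ideal.Quotient.subsingleton_iff.mpr (by simp)
      exact ((q : PrimeSpectrum (A ⧸ I ^ 0)).2.ne_top (Subsingleton.elim _ _)).elim
    · let φ := Spec.map (CommRingCat.ofHom (Ideal.Quotient.factor (Ideal.pow_le_pow_right (I := I) hn)))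
      have hcmp : φ ≫ mkS I n = mkS I 1 := by
        rw [← Spec.map_comp, ← CommRingCat.ofHom_comp]; rfl
      obtain ⟨c, hc⟩ := exists_closed I hI hn
      have hcp : φ p = c := PrimeSpectrum.comap_injective_of_surjective _ Ideal.Quotient.mk_surjective
        ((show mkS I n (φ p) = mkS I 1 p by rw [← hcmp]; rfl).trans (hp.trans hc.symm))
      refine Specializes.mem_open (Specializes.map (x := q) (y := c) ?_ (u n).continuous) U.isOpen ?_
      · refine ((PrimeSpectrum.isClosedEmbedding_comap_of_surjective _ (Ideal.Quotient.mk (I ^ n))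
          Ideal.Quotient.mk_surjective).isInducing.specializes_iff).mp ?_
        change mkS I n q ⤳ mkS I n c
        rw [hc]
        exact IsLocalRing.specializes_closedPoint _
      · rw [← hcp]
        change (φ ≫ u n) p ∈ U
        rw [hle hn]
        exact hxU
  choose ψ hψ using fun n => S8384.exists_specMap hU (u n) (hmem n)
  have hcompat : ∀ {m n : ℕ} (h : m ≤ n),
      (Ideal.Quotient.factor (Ideal.pow_le_pow_right (I := I) h)).comp (ψ n).hom = (ψ m).hom := by
    intro m n h
    have := hle h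
    rw [← hψ n, ← hψ m, ← Category.assoc, cancel_mono, ← Spec.map_comp] at this
    exact congrArg CommRingCat.Hom.hom (Spec.map_injective this)
  refine ⟨Spec.map (CommRingCat.ofHom (IsAdicComplete.liftRingHom I (fun n => (ψ n).hom) hcompat)) ≫
    hU.fromSpec, fun n => ?_⟩
  rw [← Category.assoc, ← Spec.map_comp, ← hψ n]
  congr 2
  exact CommRingCat.hom_ext (IsAdicComplete.mk_comp_liftRingHom I (fun n => (ψ n).hom) hcompat n)

section Product

variable {B : Type u} [CommRing B] {ι : Type u} [Finite ι] {C : ι → Type u} [∀ i, CommRing (C i)]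

theorem isIso_sigmaDesc (π : ∀ i, B →+* C i) (hπ : Function.Bijective (RingHom.pi π)) :
    IsIso (Sigma.desc fun i => Spec.map (CommRingCat.ofHom (π i))) := by
  have e : (Sigma.desc fun i => Spec.map (CommRingCat.ofHom (π i))) =
      sigmaSpec (fun i => CommRingCat.of (C i)) ≫ Spec.map (CommRingCat.ofHom (RingHom.pi π)) := by
    refine Sigma.hom_ext _ _ fun i => ?_
    rw [Sigma.ι_desc, ι_sigmaSpec_assoc, ← Spec.map_comp]
    rfl
  rw [e]
  haveI : IsIso (CommRingCat.ofHom (RingHom.pi π)) := (RingEquiv.ofBijective _ hπ).toCommRingCatIso.isIso_hom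
  infer_instance

theorem hom_ext_of_bijective {π : ∀ i, B →+* C i} (hπ : Function.Bijective (RingHom.pi π)) {X : Scheme.{u}}
    {f g : Spec (CommRingCat.of B) ⟶ X}
    (h : ∀ i, Spec.map (CommRingCat.ofHom (π i)) ≫ f = Spec.map (CommRingCat.ofHom (π i)) ≫ g) : f = g := by
  haveI := isIso_sigmaDesc π hπ
  rw [← cancel_epi (Sigma.desc fun i => Spec.map (CommRingCat.ofHom (π i)))]
  refine Sigma.hom_ext _ _ fun i => ?_
  simp only [Sigma.ι_desc_assoc]
  exact h i

theorem exists_of_bijective {π : ∀ i, B →+* C i} (hπ : Function.Bijective (RingHom.pi π)) {X : Scheme.{u}}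
    (f : ∀ i, Spec (CommRingCat.of (C i)) ⟶ X) :
    ∃ g : Spec (CommRingCat.of B) ⟶ X, ∀ i, Spec.map (CommRingCat.ofHom (π i)) ≫ g = f i := by
  haveI := isIso_sigmaDesc π hπ
  refine ⟨inv (Sigma.desc fun i => Spec.map (CommRingCat.ofHom (π i))) ≫ Sigma.desc f, fun i => ?_⟩
  rw [← Sigma.ι_desc (fun i => Spec.map (CommRingCat.ofHom (π i))) i, Category.assoc, IsIso.hom_inv_id_assoc,
    Sigma.ι_desc]

end Product

end Groth.Agent.H21Adic
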