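import Groth.Agent.H21Diag.SmoothLift
import Groth.Agent.H21Diag.IntegrateLoc
import Groth.Agent.H21Diag.TransporterSub

/-!
Homomorphisms over a ring-valued point, and their lifting and conjugation along nilpotent thickenings of the point.
-/

set_option autoImplicit false
set_option linter.style.haveILetI false
set_option linter.unusedSectionVars false
set_option backward.isDefEq.respectTransparency false
set_option synthInstance.maxHeartbeats 400000
set_option maxHeartbeats 1000000
universe u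

open CategoryTheory CategoryTheory.Limits MonoidalCategory CartesianMonoidalCategory MonObj AlgebraicGeometry
open Groth.Agent.H21Diag

noncomputable section

namespace Groth.Agent.H21Adic

variable {A : Type u} [CommRing A] {M G : Over (Spec (CommRingCat.of A))} [GrpObj M] [GrpObj G]

section Pack

variable {R : Type u} [CommRing R] {a : A →+* R}

/-- An object over a ring-valued point as an object over the ring. -/
abbrev pack {X : Over (Spec (CommRingCat.of A))} (p : X ⟶ Tst a) : Over (Spec (CommRingCat.of R)) :=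
  Over.mk p.left

/-- An object over a ring-valued point as the image of an object over the ring. -/
abbrev packIso {X : Over (Spec (CommRingCat.of A))} (p : X ⟶ Tst a) :
    X ≅ (Over.map (Spec.map (CommRingCat.ofHom a))).obj (pack p) :=
  Over.isoMk (Iso.refl _) ((Category.id_comp _).trans (Over.w p))

/-- Evaluate a homomorphism between base changes at points over the ring-valued point. -/
def ev (f : Red.bc (Spec.map (CommRingCat.ofHom a)) M ⟶ Red.bc (Spec.map (CommRingCat.ofHom a)) G)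
    {X : Over (Spec (CommRingCat.of A))} (p : X ⟶ Tst a) (x : X ⟶ M) : X ⟶ G :=
  (packIso p).hom ≫ bcHom _ G (pack p) (bcEquiv _ M (pack p) ((packIso p).inv ≫ x) ≫ f)

theorem ev_mul (f : Red.bc (Spec.map (CommRingCat.ofHom a)) M ⟶ Red.bc (Spec.map (CommRingCat.ofHom a)) G)
    [IsMonHom f] {X : Over (Spec (CommRingCat.of A))} (p : X ⟶ Tst a) (x y : X ⟶ M) :
    ev f p (x * y) = ev f p x * ev f p y := by
  rw [ev, ev, ev, ← MonObj.comp_mul, ← map_mul, ← MonObj.mul_comp]
  congr 3
  apply (bcEquiv _ M (pack p)).symm.injective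
  rw [bcEquiv_symm_mul, Equiv.symm_apply_apply, Equiv.symm_apply_apply, Equiv.symm_apply_apply, MonObj.comp_mul]

theorem ev_comp (f : Red.bc (Spec.map (CommRingCat.ofHom a)) M ⟶ Red.bc (Spec.map (CommRingCat.ofHom a)) G)
    {X Y : Over (Spec (CommRingCat.of A))} (t : Y ⟶ X) (p : X ⟶ Tst a) (x : X ⟶ M) :
    t ≫ ev f p x = ev f (t ≫ p) (t ≫ x) := by
  let s : pack (t ≫ p) ⟶ pack p := Over.homMk t.left rfl
  have hs : (packIso (t ≫ p)).hom ≫ (Over.map _).map s = t ≫ (packIso p).hom := by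
    ext : 1
    exact (Category.id_comp _).trans (Category.comp_id _).symm
  have hs' : (Over.map _).map s ≫ (packIso p).inv = (packIso (t ≫ p)).inv ≫ t := by
    rw [Iso.eq_inv_comp, ← Category.assoc, hs, Category.assoc, Iso.hom_inv_id, Category.comp_id]
  have hx : s ≫ bcEquiv _ M (pack p) ((packIso p).inv ≫ x) = bcEquiv _ M (pack (t ≫ p)) ((packIso (t ≫ p)).inv ≫ t ≫ x) := by
    apply (bcEquiv _ M (pack (t ≫ p))).symm.injective
    rw [Equiv.symm_apply_apply]
    refine ((Over.mapPullbackAdj _).homEquiv_naturality_left_symm s _).trans ?_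
    change (Over.map _).map s ≫ (bcEquiv _ M (pack p)).symm _ = _
    rw [Equiv.symm_apply_apply, ← Category.assoc, hs', Category.assoc]
  rw [ev, ev, ← hx, Category.assoc s, bcHom_precomp _ s, ← Category.assoc (packIso (t ≫ p)).hom, hs, Category.assoc]

/-- A homomorphism between base changes as a multiplicative family over the ring-valued point. -/
def fam (f : Red.bc (Spec.map (CommRingCat.ofHom a)) M ⟶ Red.bc (Spec.map (CommRingCat.ofHom a)) G) :
    Tst a ⊗ M ⟶ G :=
  ev f (fst _ _) (snd _ _)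

theorem lift_fam (f : Red.bc (Spec.map (CommRingCat.ofHom a)) M ⟶ Red.bc (Spec.map (CommRingCat.ofHom a)) G)
    {X : Over (Spec (CommRingCat.of A))} (p : X ⟶ Tst a) (x : X ⟶ M) : lift p x ≫ fam f = ev f p x := by
  rw [fam, ev_comp, lift_fst, lift_snd]

theorem fam_mul (f : Red.bc (Spec.map (CommRingCat.ofHom a)) M ⟶ Red.bc (Spec.map (CommRingCat.ofHom a)) G)
    [IsMonHom f] {X : Over (Spec (CommRingCat.of A))} (p : X ⟶ Tst a) (x y : X ⟶ M) :
    lift p (x * y) ≫ fam f = (lift p x ≫ fam f) * (lift p y ≫ fam f) := by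
  rw [lift_fam, lift_fam, lift_fam, ev_mul]

end Pack

variable {R R' : Type u} [CommRing R] [CommRing R'] (a : A →+* R) (b : A →+* R') (g : R →+* R') (hab : g.comp a = b)

/-- The point of the quotient inside the point of the smaller ring. -/
theorem exists_quot_point (hg : Function.Surjective g) :
    ∃ θ : (Over.map (Spec.map (CommRingCat.ofHom a))).obj (Tst (Ideal.Quotient.mk (RingHom.ker g))) ⟶ Tst b,
      ∀ {X : Over (Spec (CommRingCat.of A))} (p : X ⟶ Tst b),
        ∃ p' : pack (p ≫ tst g hab) ⟶ Tst (Ideal.Quotient.mk (RingHom.ker g)),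
          (packIso (p ≫ tst g hab)).hom ≫ (Over.map _).map p' ≫ θ = p := by
  let e := RingHom.quotientKerEquivOfSurjective hg
  have he : e.toRingHom.comp (Ideal.Quotient.mk (RingHom.ker g)) = g := RingHom.ext fun _ => rfl
  have he' : e.symm.toRingHom.comp g = Ideal.Quotient.mk (RingHom.ker g) := RingHom.ext fun r => e.symm_apply_apply (Ideal.Quotient.mk _ r)
  refine ⟨Over.homMk (Spec.map (CommRingCat.ofHom e.symm.toRingHom)) ?_, fun {X} p => ?_⟩
  · change _ ≫ Spec.map (CommRingCat.ofHom b) = Spec.map _ ≫ Spec.map (CommRingCat.ofHom a)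
    rw [← specMap_comp, ← specMap_comp, ← hab, ← RingHom.comp_assoc, he']
  · refine ⟨Over.homMk (p.left ≫ Spec.map (CommRingCat.ofHom e.toRingHom)) ?_, ?_⟩
    · change (p.left ≫ _) ≫ Spec.map (CommRingCat.ofHom (Ideal.Quotient.mk _)) = p.left ≫ Spec.map (CommRingCat.ofHom g)
      rw [Category.assoc, ← specMap_comp, he]
    · ext : 1
      change 𝟙 _ ≫ (p.left ≫ Spec.map (CommRingCat.ofHom e.toRingHom)) ≫ Spec.map (CommRingCat.ofHom e.symm.toRingHom) = p.left
      rw [Category.id_comp, Category.assoc, ← specMap_comp,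
        show e.toRingHom.comp e.symm.toRingHom = RingHom.id R' from RingHom.ext fun r => e.apply_symm_apply r,
        CommRingCat.ofHom_id, Spec.map_id]
      exact Category.comp_id _

variable (hG : Smooth G.hom) (hH : IsDiagLoc M) (hg : Function.Surjective g) (hn : IsNilpotent (RingHom.ker g))

include hab hG hH hg hn in
/-- Multiplicative families lift along nilpotent thickenings. -/
theorem exists_fam_lift (φ : Tst b ⊗ M ⟶ G)
    (hmul : ∀ (X : Over (Spec (CommRingCat.of A))) (p : X ⟶ Tst b) (x y : X ⟶ M),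
      lift p (x * y) ≫ φ = (lift p x ≫ φ) * (lift p y ≫ φ)) :
    ∃ φ' : Tst a ⊗ M ⟶ G, (∀ (X : Over (Spec (CommRingCat.of A))) (p : X ⟶ Tst a) (x y : X ⟶ M),
        lift p (x * y) ≫ φ' = (lift p x ≫ φ') * (lift p y ≫ φ')) ∧
      ∀ (X : Over (Spec (CommRingCat.of A))) (p : X ⟶ Tst b) (x : X ⟶ M),
        lift (p ≫ tst g hab) x ≫ φ' = lift p x ≫ φ := by
  obtain ⟨θ, hθ⟩ := exists_quot_point a b g hab hg
  let q := Spec.map (CommRingCat.ofHom a)
  let T := Tst (Ideal.Quotient.mk (RingHom.ker g)) ⊗ Red.bc q M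
  let φ₀ : T ⟶ Red.bc q G :=
    bcEquiv q G T (lift ((Over.map q).map (fst _ _) ≫ θ) (bcHom q M T (snd _ _)) ≫ φ)
  have hev : ∀ {Y : Over (Spec (CommRingCat.of R))} (p : Y ⟶ Tst (Ideal.Quotient.mk (RingHom.ker g)))
      (y : Y ⟶ Red.bc q M), bcHom q G Y (lift p y ≫ φ₀) = lift ((Over.map q).map p ≫ θ) (bcHom q M Y y) ≫ φ :=
    fun {Y} p y => by
      rw [bcHom_precomp, show bcHom q G T φ₀ = _ from (bcEquiv q G T).symm_apply_apply _, ← Category.assoc,
        comp_lift, ← Category.assoc, ← Functor.map_comp, lift_fst, ← bcHom_precomp, lift_snd]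
  obtain ⟨f, hf, hfφ⟩ := exists_hom_lift_smooth_loc (G := Red.bc q G) (H := Red.bc q M)
    (MorphismProperty.pullback_snd _ _ hG) (isDiagLoc_bc hH q) (RingHom.ker g) hn φ₀ fun Y p y z => by
      apply (bcEquiv q G Y).symm.injective
      change bcHom q G Y _ = bcHom q G Y _
      rw [map_mul, hev, hev, hev, map_mul, hmul]
  haveI := hf
  refine ⟨fam f, fun X p x y => fam_mul f p x y, fun X p x => ?_⟩
  obtain ⟨p', hp'⟩ := hθ p
  rw [lift_fam, ev, hfφ _ p', hev, show bcHom q M _ (bcEquiv q M _ _) = _ from (bcEquiv q M _).symm_apply_apply _,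
    ← Category.assoc, comp_lift, hp', Iso.hom_inv_id_assoc]

include hab hG hH hg hn in
/-- Conjugating elements lift along nilpotent thickenings. -/
theorem exists_conj_lift (u v : M ⟶ G) [IsMonHom u] [IsMonHom v] (c : Tst b ⟶ G)
    (hc : ∀ (X : Over (Spec (CommRingCat.of A))) (p : X ⟶ Tst b) (h : X ⟶ M),
      h ≫ v = (p ≫ c) * (h ≫ u) * (p ≫ c)⁻¹) :
    ∃ c' : Tst a ⟶ G, tst g hab ≫ c' = c ∧ ∀ (X : Over (Spec (CommRingCat.of A))) (p : X ⟶ Tst a) (h : X ⟶ M),
      h ≫ v = (p ≫ c') * (h ≫ u) * (p ≫ c')⁻¹ := by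
  obtain ⟨θ, hθ⟩ := exists_quot_point a b g hab hg
  let q := Spec.map (CommRingCat.ofHom a)
  let J := RingHom.ker g
  let e := RingHom.quotientKerEquivOfSurjective hg
  let O : Over (Spec (CommRingCat.of R)) := 𝟙_ _
  let ιT : Tst a ⟶ (Over.map q).obj O := Over.homMk (𝟙 _) (by
    change 𝟙 _ ≫ 𝟙 _ ≫ q = q
    rw [Category.id_comp, Category.id_comp])
  let ιT' : (Over.map q).obj O ⟶ Tst a := Over.homMk (𝟙 _) (by
    change 𝟙 _ ≫ q = 𝟙 _ ≫ q
    rfl)
  obtain ⟨c₀, hc₀⟩ := exists_lift_tst hG a J hn ((Over.homMk (𝟙 _) (by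
    change 𝟙 _ ≫ Spec.map (CommRingCat.ofHom (Ideal.Quotient.mk J)) ≫ q = Spec.map _
    rw [Category.id_comp, ← specMap_comp]) : Tst ((Ideal.Quotient.mk J).comp a) ⟶
      (Over.map q).obj (Tst (Ideal.Quotient.mk J))) ≫ θ ≫ c)
  let d : O ⟶ Red.bc q G := bcEquiv q G O (ιT' ≫ c₀)
  let uR := (Over.pullback q).map u
  let vR := (Over.pullback q).map v
  haveI : IsMonHom (uR : Red.bc q M ⟶ Red.bc q G) := isMonHom_of_mul _ fun x y => MonObj.mul_comp _ _ _
  haveI : IsMonHom (vR : Red.bc q M ⟶ Red.bc q G) := isMonHom_of_mul _ fun x y => MonObj.mul_comp _ _ _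
  let w : Red.bc q M ⟶ Red.bc q G := (toUnit _ ≫ d) * uR * (toUnit _ ≫ d)⁻¹
  have hw : ∀ {Y : Over (Spec (CommRingCat.of R))} (h : Y ⟶ Red.bc q M),
      h ≫ w = (toUnit Y ≫ d) * (h ≫ uR) * (toUnit Y ≫ d)⁻¹ := fun {Y} h => by
    simp only [w, MonObj.comp_mul, GrpObj.comp_inv, ← Category.assoc, toUnit_unique (h ≫ toUnit _) (toUnit Y)]
  haveI : IsMonHom w := isMonHom_of_mul w fun x y => by rw [hw, hw, hw, MonObj.mul_comp]; group
  have hd : ∀ {Y : Over (Spec (CommRingCat.of R))} (p : Y ⟶ Tst (Ideal.Quotient.mk J)),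
      bcHom q G Y (toUnit Y ≫ d) = (Over.map q).map p ≫ θ ≫ c := fun {Y} p => by
    rw [bcHom_precomp, show bcHom q G O d = _ from (bcEquiv q G O).symm_apply_apply _]
    let k : (Over.map q).obj Y ⟶ Tst ((Ideal.Quotient.mk J).comp a) := Over.homMk p.left (by
      change p.left ≫ Spec.map _ = Y.hom ≫ q
      rw [specMap_comp, ← Category.assoc]
      exact congrArg (· ≫ q) (Over.w p))
    have h1 := congrArg (k ≫ ·) hc₀
    simp only [← Category.assoc] at h1 ⊢
    refine Eq.trans ?_ (h1.trans ?_)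
    · refine congrArg (· ≫ c₀) ?_
      ext : 1
      change Y.hom ≫ 𝟙 _ = p.left ≫ Spec.map (CommRingCat.ofHom (Ideal.Quotient.mk J))
      rw [Category.comp_id]
      exact (Over.w p).symm
    · refine congrArg (fun z => (z ≫ θ) ≫ c) ?_
      ext : 1
      exact Category.comp_id _
  obtain ⟨c₁, hc₁0, hc₁⟩ := exists_conj_of_eq_mod_nilpotent (G := Red.bc q G) (H := Red.bc q M)
    (MorphismProperty.pullback_snd _ _ hG) (isDiagLoc_bc hH q) w vR J hn fun Y p h => by
      apply (bcEquiv q G Y).symm.injective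
      change bcHom q G Y _ = bcHom q G Y _
      rw [hw, map_mul, map_mul, map_inv, hd p, bcHom_comp, bcHom_comp]
      refine Eq.trans ?_ (hc _ ((Over.map q).map p ≫ θ) (bcHom q M Y h)).symm
      simp only [Category.assoc]
  let c' : Tst a ⟶ G := ιT ≫ bcHom q G O (c₁ * d)
  have hpack : ∀ {X : Over (Spec (CommRingCat.of A))} (p : X ⟶ Tst a),
      p ≫ c' = (packIso p).hom ≫ bcHom q G (pack p) (toUnit (pack p) ≫ (c₁ * d)) := fun {X} p => by
    rw [bcHom_precomp, ← Category.assoc p ιT, ← Category.assoc (packIso p).hom]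
    refine congrArg (· ≫ bcHom q G O (c₁ * d)) ?_
    ext : 1
    exact (Category.comp_id _).trans (Category.id_comp _).symm
  refine ⟨c', ?_, fun X p h => ?_⟩
  · obtain ⟨p', hp'⟩ := hθ (𝟙 (Tst b))
    have hr : tst g hab = 𝟙 _ ≫ tst g hab := (Category.id_comp _).symm
    rw [hr, hpack, MonObj.comp_mul, map_mul, hd p']
    have h1 : toUnit (pack (𝟙 (Tst b) ≫ tst g hab)) ≫ c₁ = 1 := by
      rw [show toUnit (pack (𝟙 (Tst b) ≫ tst g hab)) = p' ≫ toUnit _ from toUnit_unique _ _, Category.assoc, hc₁0,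
        MonObj.comp_one]
    rw [h1, map_one, _root_.one_mul, ← Category.assoc, ← Category.assoc, Category.assoc _ _ θ, hp',
      Category.id_comp]
  · let h' := bcEquiv q M (pack p) ((packIso p).inv ≫ h)
    have h1 := congrArg (fun z => (packIso p).hom ≫ bcHom q G (pack p) z) (hc₁ (pack p) h')
    simp only [hw, vR, uR, bcHom_comp, map_mul, map_inv] at h1
    rw [show bcHom q M (pack p) h' = _ from (bcEquiv q M (pack p)).symm_apply_apply _] at h1
    simp only [MonObj.comp_mul, GrpObj.comp_inv, ← Category.assoc, Iso.hom_inv_id, Category.id_comp] at h1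
    rw [hpack, MonObj.comp_mul, map_mul, MonObj.comp_mul, h1]
    group

end Groth.Agent.H21Adic
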