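import Groth.Agent.H21EtPt.Complete
import Groth.Agent.H21Adic.LevelHom

/-!
Gluing points given on the thickenings of the closed fibre of a complete Noetherian local ring.
-/

set_option autoImplicit false
set_option linter.style.haveILetI false
set_option linter.unusedSectionVars false
set_option backward.isDefEq.respectTransparency false
set_option synthInstance.maxHeartbeats 400000
set_option maxHeartbeats 1000000
universe u

open CategoryTheory CategoryTheory.Limits MonoidalCategory CartesianMonoidalCategory MonObj AlgebraicGeometry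
open Groth.Agent.H21Diag Groth.Agent.H21EtPt

noncomputable section

namespace Groth.Agent.H21Adic

/-- A finite scheme over an affine one is the spectrum of a finite algebra. -/
theorem exists_aff_iso {A : Type u} [CommRing A] [IsLocalRing A] (X : Over (Spec (CommRingCat.of A)))
    [IsFinite X.hom] : ∃ (B : Type u) (_ : CommRing B) (_ : Algebra A B), Module.Finite A B ∧ Nonempty (aff A B ≅ X) := by
  haveI : IsAffine X.left := isAffine_of_isAffineHom X.hom
  let φ := Spec.preimage (X.left.isoSpec.inv ≫ X.hom)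
  letI : Algebra A Γ(X.left, ⊤) := φ.hom.toAlgebra
  have hφ : Spec.map (CommRingCat.ofHom (algebraMap A Γ(X.left, ⊤))) = X.left.isoSpec.inv ≫ X.hom :=
    Spec.map_preimage _
  refine ⟨Γ(X.left, ⊤), inferInstance, φ.hom.toAlgebra, ?_, ⟨Over.isoMk X.left.isoSpec.symm hφ.symm⟩⟩
  have h : IsFinite (Spec.map (CommRingCat.ofHom (algebraMap A Γ(X.left, ⊤)))) := by
    rw [hφ]
    infer_instance
  exact RingHom.finite_algebraMap.mp ((IsFinite.SpecMap_iff _).mp h)

variable {A : Type u} [CommRing A] [IsLocalRing A] [IsNoetherianRing A]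
  [IsAdicComplete (IsLocalRing.maximalIdeal A) A]

/-- The point of a thickening of the closed point. -/
abbrev lvl (A : Type u) [CommRing A] [IsLocalRing A] (k : ℕ) : A →+* A ⧸ IsLocalRing.maximalIdeal A ^ (k + 1) :=
  Ideal.Quotient.mk _

/-- Transition of thickenings of the closed point. -/
abbrev lvlMap (A : Type u) [CommRing A] [IsLocalRing A] (k : ℕ) :
    A ⧸ IsLocalRing.maximalIdeal A ^ (k + 1 + 1) →+* A ⧸ IsLocalRing.maximalIdeal A ^ (k + 1) :=
  Ideal.Quotient.factor (Ideal.pow_le_pow_right (k + 1).le_succ)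

theorem lvlMap_comp (k : ℕ) : (lvlMap A k).comp (lvl A (k + 1)) = lvl A k := RingHom.ext fun _ => rfl

theorem lvlMap_surjective (k : ℕ) : Function.Surjective (lvlMap A k) := Ideal.Quotient.factor_surjective _

theorem isNilpotent_ker_lvlMap (k : ℕ) : IsNilpotent (RingHom.ker (lvlMap A k)) := by
  have h : RingHom.ker (lvlMap A k) ≤ (IsLocalRing.maximalIdeal A ^ (k + 1)).map (lvl A (k + 1)) := fun x hx => by
    obtain ⟨r, rfl⟩ := Ideal.Quotient.mk_surjective x
    exact Ideal.mem_map_of_mem _ (Ideal.Quotient.eq_zero_iff_mem.mp hx)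
  refine ⟨2, le_bot_iff.mp ((Ideal.pow_right_mono h 2).trans ?_)⟩
  rw [← Ideal.map_pow, ← pow_mul, Ideal.map_le_iff_le_comap]
  intro r hr
  exact Ideal.Quotient.eq_zero_iff_mem.mpr (Ideal.pow_le_pow_right (by omega) hr)

variable (B : Type u) [CommRing B] [Algebra A B]

/-- The structure of a thickening over the thickened closed point. -/
abbrev lvPt (k : ℕ) : lv A B (k + 1) ⟶ Tst (lvl A k) :=
  Over.homMk (Spec.map (CommRingCat.ofHom
    (Ideal.quotientMap (lvI A B (k + 1)) (algebraMap A B) Ideal.le_comap_map))) (by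
    change _ ≫ Spec.map _ = Spec.map _
    rw [← Spec.map_comp]
    rfl)

/-- A point over a thickened closed point lies in the thickening. -/
theorem exists_lv_point {k : ℕ} {X : Over (Spec (CommRingCat.of A))} (p : X ⟶ Tst (lvl A k)) (x : X ⟶ aff A B) :
    ∃ y : X ⟶ lv A B (k + 1), y ≫ lvIncl A B (k + 1) = x := by
  have hsq := (isPullback_SpecMap_of_isPushout _ _ _ _
    (H13Inf.isPushout_quotient (algebraMap A B) (IsLocalRing.maximalIdeal A ^ (k + 1)))).flip
  let y := hsq.lift x.left p.left ((Over.w x).trans (Over.w p).symm)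
  refine ⟨Over.homMk y ?_, Over.OverMorphism.ext (hsq.lift_fst _ _ _)⟩
  change y ≫ Spec.map (CommRingCat.ofHom ((Ideal.Quotient.mk _).comp (algebraMap A B))) = X.hom
  rw [CommRingCat.ofHom_comp, Spec.map_comp, hsq.lift_fst_assoc]
  exact Over.w x

variable [Module.Finite A B] {G : Over (Spec (CommRingCat.of A))} [GrpObj G]

/-- Compatible points on the thickenings glue. -/
theorem exists_glue (w : ∀ k, lv A B (k + 1) ⟶ G) (hw : ∀ k, lvMap A B (k + 1).le_succ ≫ w (k + 1) = w k) :
    ∃ x : aff A B ⟶ G, ∀ (k : ℕ) {X : Over (Spec (CommRingCat.of A))} (_ : X ⟶ Tst (lvl A k)) (y : X ⟶ lv A B (k + 1)),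
      y ≫ lvIncl A B (k + 1) ≫ x = y ≫ w k := by
  obtain ⟨f, hf, hfu⟩ := (S8385.result A B G).2 (fun k => (lvMap A B k.le_succ ≫ w k).left)
    (fun k => Over.w (lvMap A B k.le_succ ≫ w k)) (fun k => by
      change (lvMap A B k.le_succ).left ≫ (lvMap A B (k + 1).le_succ ≫ w (k + 1)).left = _
      rw [hw k]
      rfl)
  refine ⟨Over.homMk f hf, fun k {X} _ y => congrArg (y ≫ ·) ?_⟩
  have h : lvIncl A B (k + 1) ≫ Over.homMk f hf = lvMap A B (k + 1).le_succ ≫ w (k + 1) := by
    ext : 1
    exact hfu (k + 1)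
  exact h.trans (hw k)

omit B in
/-- Morphisms from a finite scheme agreeing over the thickened closed points agree. -/
theorem hom_ext_lvl {X : Over (Spec (CommRingCat.of A))} [IsFinite X.hom] {a b : X ⟶ G}
    (h : ∀ (k : ℕ) (T : Over (Spec (CommRingCat.of A))) (_ : T ⟶ Tst (lvl A k)) (x : T ⟶ X), x ≫ a = x ≫ b) :
    a = b := by
  obtain ⟨B, _, _, _, ⟨e⟩⟩ := exists_aff_iso X
  rw [← cancel_epi e.hom]
  refine hom_ext_lv A B fun k => ?_
  rw [← lvMap_incl A B k.le_succ, Category.assoc, Category.assoc, ← Category.assoc (lvIncl A B (k + 1)),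
    ← Category.assoc (lvIncl A B (k + 1)), h k _ (lvPt B k) (lvIncl A B (k + 1) ≫ e.hom)]

end Groth.Agent.H21Adic
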