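import Groth.Agent.S2979
import Groth.Agent.S2973
import Groth.Agent.H21Mono.MultTypeFG
import Groth.Agent.H21Diag.IntegrateLoc
import Groth.Agent.H7Flat.ThickeningHom
import Groth.Agent.H21Diag.Conj
import Groth.Agent.H18Torsor.DiagExact
import Groth.Agent.H21Diag.TorusPart
import Groth.Agent.H21Diag.SplitSubtori
import Groth.Agent.H21Split.Corad.Normal
import Groth.Agent.H21EtPt.CentralLift

/-!
Multiplicative type lifts of subgroups of smooth groups, and the torsion subgroups of diagonalisable groups.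
-/

set_option autoImplicit false
set_option linter.style.haveILetI false
set_option linter.unusedSectionVars false
set_option backward.isDefEq.respectTransparency false
set_option synthInstance.maxHeartbeats 400000
set_option maxHeartbeats 1000000
universe u

open CategoryTheory MonoidalCategory CartesianMonoidalCategory MonObj GrpObj AlgebraicGeometry

noncomputable section

namespace Groth.Agent.H21Adic

/-- Subgroups of multiplicative type of smooth groups lift along nilpotent ideals as subgroups of multiplicative type. -/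
theorem exists_multType_subgroup_lift {R : Type u} [CommRing R] (J : Ideal R) (hJ : IsNilpotent J)
    (G : Over (Spec (CommRingCat.of R))) [GrpObj G] (hG : Smooth G.hom)
    (H₀ : Over (Spec (CommRingCat.of (R ⧸ J)))) [GrpObj H₀] (hH₀ : H21Diag.IsDiagLoc H₀)
    (j₀ : H₀ ⟶ Red.bc (Spec.map (CommRingCat.ofHom (Ideal.Quotient.mk J))) G) [IsMonHom j₀] [IsImmersion j₀.left] :
    ∃ (H : Over (Spec (CommRingCat.of R))) (_ : GrpObj H) (j : H ⟶ G), IsMonHom j ∧ IsImmersion j.left ∧
      SGA3x.IsMultTypeFT H ∧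
      ∃ φ : Red.bc (Spec.map (CommRingCat.ofHom (Ideal.Quotient.mk J))) H ≅ H₀, IsMonHom φ.hom ∧
        φ.hom ≫ j₀ = (Over.pullback (Spec.map (CommRingCat.ofHom (Ideal.Quotient.mk J)))).map j := by
  let q : Spec (CommRingCat.of (R ⧸ J)) ⟶ Spec (CommRingCat.of R) :=
    Spec.map (CommRingCat.ofHom (Ideal.Quotient.mk J))
  haveI : IsAffineHom H₀.hom :=
    Groth.Agent.H21Mono.prop_of_locDS @IsAffineHom (fun T M _ => Groth.Agent.H21Diag.isAffineHom_DS T M) hH₀
  haveI hsm : Smooth (Red.bc q G).hom := MorphismProperty.pullback_snd (P := @Smooth) _ _ hG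
  haveI : LocallyOfFiniteType H₀.hom := by
    rw [← Over.w j₀]
    haveI : LocallyOfFiniteType (Red.bc q G).hom := inferInstance
    infer_instance
  have hft₀ := Groth.Agent.H21Mono.isMultTypeFT_of_locDS hH₀
  obtain ⟨A₀, _, _, ⟨e₀⟩, -, hfp⟩ := Groth.Agent.H21Hom.exists_model H₀
  haveI := hfp (Groth.Agent.H21Diag.lfp_of_multTypeFT hft₀)
  have hm₀ := Groth.Agent.H21Hom.isMultType_of_specGrp (Groth.Agent.H21Hom.isMultTypeFT_of_iso hft₀ e₀)
  have hJ' : ∀ x ∈ J, IsNilpotent x := fun x hx => by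
    obtain ⟨n, hn⟩ := hJ
    exact ⟨n, (Ideal.mem_bot).mp (by rw [← Ideal.zero_eq_bot, ← hn]; exact Ideal.pow_mem_pow hx n)⟩
  obtain ⟨A, _, _, hA, ⟨eA⟩⟩ :=
    Groth.Agent.S2979.result R J hJ' A₀ (Groth.Agent.S2973.result _ A₀ inferInstance hm₀)
  have hftA : Algebra.FiniteType R A := Groth.Agent.H21Mono.finiteType_of_tensor_quot hJ A
    (Algebra.FiniteType.equiv (inferInstance : Algebra.FiniteType (R ⧸ J) A₀) (AlgEquivClass.toAlgEquiv eA.symm))
  let H := Groth.Agent.H21Hom.specGrp R A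
  have hH : SGA3x.IsMultTypeFT H :=
    Groth.Agent.H21Hom.isMultTypeFT_specGrp hftA (Groth.Agent.H21Mono.isMultType_of_isQuasiIsotrivial hA)
  have hHd := Groth.Agent.H21Diag.isDiagLoc_of_isMultTypeFT hH
  obtain ⟨b⟩ := Groth.Agent.H21Hom.nonempty_bc_specGrp (R := R) A (R ⧸ J)
  obtain ⟨c⟩ := Groth.Agent.H21Hom.nonempty_iso_of_bialgEquiv eA.symm
  let Φ : Grp.mk (Red.bc q H) ≅ Grp.mk H₀ := b ≪≫ c ≪≫ e₀.symm
  let φ : Red.bc q H ≅ H₀ := (Grp.forget _).mapIso Φ
  haveI : IsMonHom φ.hom := inferInstanceAs (IsMonHom Φ.hom.hom.hom)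
  obtain ⟨φ₀, hmul, hφ₀⟩ := Groth.Agent.H21Mono.exists_pairing q (H := H) (G := G) (φ.hom ≫ j₀)
  obtain ⟨f, hf, hff⟩ := Groth.Agent.H21Diag.exists_hom_lift_smooth_loc hG hHd J hJ φ₀ hmul
  have hmap := hφ₀ f hff
  haveI : Flat H.hom := Groth.Agent.H21Mono.prop_of_locDS @Flat
    (fun T M _ => Groth.Agent.H21Diag.flat_DS T M) hHd
  haveI : LocallyOfFiniteType H.hom := by
    haveI := Groth.Agent.H21Diag.lfp_of_multTypeFT hH
    infer_instance
  haveI : LocallyOfFiniteType (f.left ≫ G.hom) := by rw [Over.w f]; infer_instance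
  haveI : LocallyOfFiniteType f.left := locallyOfFiniteType_of_comp f.left G.hom
  haveI : IsClosedImmersion q := IsClosedImmersion.spec_of_surjective _ Ideal.Quotient.mk_surjective
  haveI : Surjective q := ⟨fun p => by
    have hp : p ∈ Set.range (PrimeSpectrum.comap (Ideal.Quotient.mk J)) := by
      rw [range_comap_of_surjective _ _ Ideal.Quotient.mk_surjective, Ideal.mk_ker, PrimeSpectrum.mem_zeroLocus]
      intro x hx
      obtain ⟨n, hn⟩ := hJ' x hx
      exact p.2.mem_of_pow_mem n (hn ▸ p.asIdeal.zero_mem)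
    exact hp⟩
  haveI : IsImmersion ((Over.pullback q).map f).left := by
    rw [hmap, Over.comp_left]
    haveI : IsIso φ.hom.left := inferInstanceAs (IsIso ((Over.forget _).map φ.hom))
    infer_instance
  haveI : IsClosedImmersion (Limits.pullback.fst G.hom q) := MorphismProperty.pullback_fst (P := @IsClosedImmersion) _ _ ‹_›
  haveI : Surjective (Limits.pullback.fst G.hom q) := MorphismProperty.pullback_fst (P := @Surjective) _ _ ‹_›
  have himm : IsImmersion f.left :=
    (Groth.Agent.H7Flat.isImmersion_iff_of_thickening _ (Limits.pullback.fst G.hom q) _ f.left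
      (Groth.Agent.H21Mono.sqBC q f).flip).1 ‹_›
  exact ⟨H, inferInstance, f, hf, himm, hH, φ, inferInstance, hmap.symm⟩

theorem isMonHom_of_comp {S : Scheme.{u}} {A B C : Over S} [GrpObj A] [GrpObj B] [GrpObj C] (a : A ⟶ B) (i : B ⟶ C)
    [IsMonHom i] [Mono i] (j : A ⟶ C) [IsMonHom j] (h : a ≫ i = j) : IsMonHom a :=
  H21Diag.isMonHom_of_mul _ fun x y => by
    rw [← cancel_mono i, Category.assoc, h, MonObj.mul_comp, MonObj.mul_comp, Category.assoc, Category.assoc, h]

open H21Diag H18Torsor.DiagExact in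
/-- The torsion subgroups of a locally diagonalisable group are locally diagonalisable. -/
theorem isDiagLoc_kernel_pow {S : Scheme.{u}} {H K : Over S} [GrpObj H] [GrpObj K] (hH : IsDiagLoc H) (k : K ⟶ H)
    [IsMonHom k] (n : ℕ) (hker : AlgGrp.IsKernel k ((𝟙 H : H ⟶ H) ^ n)) : IsDiagLoc K := by
  obtain ⟨S', g, hg, hs, hqc, hloc⟩ := hH
  refine ⟨S', g, hg, hs, hqc, fun s' => ?_⟩
  obtain ⟨U, hsU, M, _, ⟨e⟩⟩ := hloc s'
  let f := U.ι ≫ g
  let φ : M →+ M := nsmulAddMonoidHom n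
  let Q := M ⧸ φ.range
  let ψ : M →+ Q := QuotientAddGroup.mk' φ.range
  refine ⟨U, hsU, Q, inferInstance, ?_⟩
  haveI : IsMonHom e.hom.hom.hom := inferInstanceAs (IsMonHom e.hom.hom.hom)
  haveI : IsMonHom e.inv.hom.hom := inferInstanceAs (IsMonHom e.inv.hom.hom)
  haveI : IsIso e.hom.hom.hom := ⟨e.inv.hom.hom, congrArg (fun k => k.hom.hom) e.hom_inv_id,
    congrArg (fun k => k.hom.hom) e.inv_hom_id⟩
  haveI : Mono η[H] := ⟨fun a b _ => toUnit_unique a b⟩
  haveI : Mono k := ⟨fun a b h => hker.hom_ext h (toUnit_unique _ _)⟩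
  let F := Over.pullback f
  haveI : Mono (F.map k) := inferInstance
  haveI : IsMonHom (F.map k : Red.bc f K ⟶ Red.bc f H) := isMonHom_of_mul _ fun x y => MonObj.mul_comp _ _ _
  let i₁ : Red.bc f K ⟶ Red.DS (U : Scheme.{u}) M := F.map k ≫ e.hom.hom.hom
  let i₂ : Red.DS (U : Scheme.{u}) Q ⟶ Red.DS (U : Scheme.{u}) M := Red.DSmap _ ψ
  haveI : Mono i₂ := mono_DSmap ψ (QuotientAddGroup.mk'_surjective _)
  haveI : IsMonHom i₂ := isMonHom_DSmap _ ψ
  have hi₁ : i₁ ≫ Red.DSmap _ φ = 1 := by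
    rw [← id_pow_eq_DSmap, MonObj.comp_pow, Category.comp_id]
    have h1 : (F.map k) ^ n = 1 := by
      apply (bcEquiv f H _).symm.injective
      change bcHom f H _ ((F.map k) ^ n) = bcHom f H _ 1
      rw [map_pow, map_one, show F.map k = 𝟙 _ ≫ (Over.pullback f).map k from (Category.id_comp _).symm,
        bcHom_comp, ← Category.comp_id (_ ≫ k), ← MonObj.comp_pow, Category.assoc, hker.w, ← Category.assoc,
        toUnit_unique (_ ≫ toUnit K) (toUnit _)]
      exact (Hom.one_def).symm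
    change (F.map k ≫ e.hom.hom.hom) ^ n = 1
    rw [← Category.comp_id (F.map k), Category.assoc, ← MonObj.comp_pow]
    have h2 := (H21EtPt.pow_comp (𝟙 (Red.bc f H)) e.hom.hom.hom n).symm
    rw [h2, ← Category.assoc, MonObj.comp_pow, Category.comp_id, h1, MonObj.one_comp]
  have hex : ∀ m, ψ m = 0 → ∃ m', φ m' = m := fun m hm =>
    AddMonoidHom.mem_range.mp ((QuotientAddGroup.eq_zero_iff _).mp hm)
  obtain ⟨a, ha⟩ := exists_lift_kernel φ ψ (QuotientAddGroup.mk'_surjective _) hex i₁ hi₁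
  have hi₂ : (i₂ ≫ e.inv.hom.hom) ^ n = 1 := by
    have h1 : i₂ ≫ Red.DSmap _ φ = 1 := DSmap_comp_eq_one φ ψ (AddMonoidHom.ext fun m =>
      (QuotientAddGroup.eq_zero_iff _).mpr ⟨m, rfl⟩)
    rw [← id_pow_eq_DSmap, MonObj.comp_pow, Category.comp_id] at h1
    have h2 := (H21EtPt.pow_comp i₂ e.inv.hom.hom n).symm
    rw [h2, h1, MonObj.one_comp]
  let z := bcHom f H _ (i₂ ≫ e.inv.hom.hom)
  have hz : z ≫ ((𝟙 H : H ⟶ H) ^ n) = toUnit _ ≫ η[H] := by
    rw [MonObj.comp_pow, Category.comp_id, ← map_pow, hi₂, map_one, Hom.one_def]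
  let b : Red.DS (U : Scheme.{u}) Q ⟶ Red.bc f K := bcEquiv f K _ (hker.lift z (toUnit _) hz)
  have hb : b ≫ i₁ = i₂ := by
    have h1 : b ≫ F.map k = i₂ ≫ e.inv.hom.hom := by
      apply (bcEquiv f H _).symm.injective
      change bcHom f H _ (b ≫ F.map k) = z
      rw [bcHom_comp, show bcHom f K _ b = _ from (bcEquiv f K _).symm_apply_apply _]
      exact hker.lift_fst _ _ _
    rw [← Category.assoc, h1, Category.assoc,
      show e.inv.hom.hom ≫ e.hom.hom.hom = 𝟙 _ from congrArg (fun k => k.hom.hom) e.inv_hom_id, Category.comp_id]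
  let E : Red.bc f K ≅ Red.DS (U : Scheme.{u}) Q :=
    { hom := a, inv := b
      hom_inv_id := by rw [← cancel_mono i₁, Category.assoc, hb, ha, Category.id_comp]
      inv_hom_id := by rw [← cancel_mono i₂, Category.assoc, ha, hb, Category.id_comp] }
  haveI : IsMonHom i₁ := inferInstanceAs (IsMonHom (F.map k ≫ e.hom.hom.hom))
  haveI : IsMonHom E.hom := isMonHom_of_comp E.hom i₂ i₁ ha
  exact ⟨Grp.mkIso' E⟩

end Groth.Agent.H21Adic
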